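import Groth.Agent.CokStage.Basic
import Groth.Agent.FlatLimMod.Stage
import Groth.Agent.InjFibre.Stalk

/-!
# Injectivity at a point with flat cokernel descends to a stage
-/

set_option autoImplicit false
set_option backward.isDefEq.respectTransparency false
set_option linter.style.haveILetI false

universe u

open CategoryTheory CategoryTheory.Limits AlgebraicGeometry TopologicalSpace Opposite

noncomputable section

namespace Groth.Agent.CokStage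

open Groth.Agent.QC LimDesc

/-- Injectivity on a stalk is invariant under isomorphisms of morphisms. -/
theorem injAt_congr {X : Scheme.{u}} {F G F' G' : X.Modules} {u : F ⟶ G} {u' : F' ⟶ G'} (eF : F ≅ F')
    (eG : G ≅ G') (w : eF.hom ≫ u' = u ≫ eG.hom) {x : X} (h : InjAt u x) : InjAt u' x := by
  let S := DerSch.stalkFunctor X x
  have h1 : Function.Injective (S.map u) := h
  show Function.Injective (S.map u')
  intro a b hab
  have he : ∀ z, (S.map u) ((S.mapIso eF).inv z) = (S.mapIso eG).inv ((S.map u') z) := fun z => by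
    rw [← ConcreteCategory.comp_apply, ← ConcreteCategory.comp_apply]
    congr 2
    show S.map eF.inv ≫ S.map u = S.map u' ≫ S.map eG.inv
    rw [← S.map_comp, ← S.map_comp]
    congr 1
    rw [Iso.inv_comp_eq, ← Category.assoc, Iso.eq_comp_inv, w]
  have h2 : (S.mapIso eF).inv a = (S.mapIso eF).inv b := h1 (by rw [he, he, hab])
  exact (S.mapIso eF).symm.toLinearEquiv.injective h2

/-- A finitely presented cokernel. -/
theorem isFP_cokernel {X : Scheme.{u}} {F G : X.Modules} (u : F ⟶ G) (hF : Coh.IsQCoh F) (hG : Coh.IsQCoh G)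
    (hF' : CohB1.IsFP F) (hG' : CohB1.IsFP G) : CohB1.IsFP (cokernel u) := by
  refine isFP_iff_exists_hasFinPres.2 fun x => ?_
  obtain ⟨U, hU, hx, -⟩ := exists_isAffineOpen_mem_and_subset (X := X) (x := x) (U := ⊤) trivial
  haveI := LocFree.finitePresentation_sections_of_isFP hF hF' hU
  haveI := LocFree.finitePresentation_sections_of_isFP hG hG' hU
  obtain ⟨e⟩ := exists_quot_equiv u hF hG hU
  haveI : Module.FinitePresentation Γ(X, U) (Γ(G, U) ⧸ LinearMap.range (secMap u U)) :=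
    Module.finitePresentation_of_surjective (LinearMap.range (secMap u U)).mkQ (Submodule.mkQ_surjective _) (by
      rw [Submodule.ker_mkQ, LinearMap.range_eq_map]; exact (Module.Finite.fg_top (R := Γ(X, U)) (M := Γ(F, U))).map _)
  haveI : Module.FinitePresentation Γ(X, U) Γ(cokernel u, U) := Module.FinitePresentation.of_equiv e
  exact ⟨U, hx, hasFinPres_of_finitePresentation hU (hM := isQCoh_cokernel hF hG u)⟩

/-- A section with vanishing germ vanishes near the point. -/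
theorem exists_res_eq_zero {X : Scheme.{u}} {F : X.Modules} {U : X.Opens} {x : X} (hx : x ∈ U) {s : Γ(F, U)}
    (h : WeakAssLib.mgerm F hx s = 0) : ∃ (N : X.Opens) (hN : N ≤ U), x ∈ N ∧ res F hN s = 0 := by
  obtain ⟨N, hxN, iU, iV, he⟩ := TopCat.Presheaf.germ_eq F.presheaf x hx hx s 0 (h.trans (map_zero _).symm)
  exact ⟨N, iU.le, hxN, he.trans (map_zero _)⟩

/-- Vanishing germs pull back. -/
theorem mgerm_pullSectLE_eq_zero {X Y : Scheme.{u}} (q : X ⟶ Y) (H : Y.Modules) {U : Y.Opens} {W : X.Opens}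
    (e : W ≤ q ⁻¹ᵁ U) (s : Γ(H, U)) {x : X} (hx : x ∈ W) (h : WeakAssLib.mgerm H (e hx) s = 0) :
    WeakAssLib.mgerm ((Scheme.Modules.pullback q).obj H) hx (ModDesc.pullSectLE q H U W e s) = 0 := by
  obtain ⟨N, hN, hxN, hs⟩ := exists_res_eq_zero (F := H) (U := U) (x := q x) (e hx) h
  have h1 := ModDesc.res_pullSectLE q H hN (inf_le_left : W ⊓ q ⁻¹ᵁ N ≤ W) e inf_le_right s
  rw [hs, map_zero] at h1
  have h2 := congrArg (WeakAssLib.mgerm _ (show x ∈ W ⊓ q ⁻¹ᵁ N from ⟨hx, hxN⟩)) h1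
  rwa [WeakAssLib.mgerm_res, map_zero] at h2

/-- Vanishing germs of pulled back sections pull back. -/
theorem mgerm_pullSectLE_comp_eq_zero {T X Y : Scheme.{u}} (q : T ⟶ X) (g : X ⟶ Y) {r : T ⟶ Y} (w : q ≫ g = r)
    (H : Y.Modules) {U : Y.Opens} {V : X.Opens} (eV : V ≤ g ⁻¹ᵁ U) {W : T.Opens} (e : W ≤ q ⁻¹ᵁ V)
    (e' : W ≤ r ⁻¹ᵁ U) (s : Γ(H, U)) {y : T} (hy : y ∈ W)
    (h : WeakAssLib.mgerm ((Scheme.Modules.pullback g).obj H) (e hy) (ModDesc.pullSectLE g H U V eV s) = 0) :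
    WeakAssLib.mgerm ((Scheme.Modules.pullback r).obj H) hy (ModDesc.pullSectLE r H U W e' s) = 0 := by
  obtain ⟨N, hN, hyN, hs⟩ := exists_res_eq_zero (F := (Scheme.Modules.pullback g).obj H) (U := V) (x := q y) (e hy) h
  have h1 := ModDesc.res_tr q g w H hN (inf_le_left : W ⊓ q ⁻¹ᵁ N ≤ W) e inf_le_right
    (ModDesc.pullSectLE g H U V eV s)
  rw [hs, map_zero, ModDesc.tr_pullSectLE q g w H eV e e'] at h1
  have h2 := congrArg (WeakAssLib.mgerm _ (show y ∈ W ⊓ q ⁻¹ᵁ N from ⟨hy, hyN⟩)) h1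
  rwa [WeakAssLib.mgerm_res, map_zero] at h2

variable {I : Type u} [SmallCategory I] [IsCofiltered I] (D : I ⥤ Scheme.{u})
  [∀ {i j} (f : i ⟶ j), IsAffineHom (D.map f)]
variable (c : Cone D) (hc : IsLimit c)

include hc in
/-- A germ killed in the limit is killed at a stage. -/
theorem exists_mgerm_eq_zero_stage {j : I} (H : (D.obj j).Modules) (hH : Coh.IsQCoh H) {U : (D.obj j).Opens}
    (hU : IsAffineOpen U) (r : Γ(H, U)) {x : c.pt} (hx : x ∈ c.π.app j ⁻¹ᵁ U)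
    (h : WeakAssLib.mgerm ((Scheme.Modules.pullback (c.π.app j)).obj H) hx
      (ModDesc.pullSectLE (c.π.app j) H U _ le_rfl r) = 0) :
    ∃ (p : I) (b : p ⟶ j) (hp : c.π.app p x ∈ D.map b ⁻¹ᵁ U),
      WeakAssLib.mgerm ((Scheme.Modules.pullback (D.map b)).obj H) hp
        (ModDesc.pullSectLE (D.map b) H U _ le_rfl r) = 0 := by
  haveI : Coh.IsQCoh H := hH
  have hW : IsAffineOpen (c.π.app j ⁻¹ᵁ U) := ModDesc.isAffineOpen_preimage_π D c hc hU
  have hL : IsLoc ((Scheme.Modules.pullback (c.π.app j)).obj H) (c.π.app j ⁻¹ᵁ U) :=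
    isLoc_of_isQCoh hW (hM := isQCoh_pullback _ hH)
  obtain ⟨s, hs, hsr⟩ := (WeakAssLib.germ_eq_zero_iff hW hL hx _).1 h
  obtain ⟨l, a, t, e, ht⟩ := ModDesc.exists_appLE_eq D c hc hU s
  let m : Γ((Scheme.Modules.pullback (D.map a)).obj H, D.map a ⁻¹ᵁ U) :=
    t • ModDesc.pullSectLE (D.map a) H U _ le_rfl r
  have e₁ : c.π.app l ⁻¹ᵁ (D.map a ⁻¹ᵁ U) ≤ c.π.app j ⁻¹ᵁ U := (congr($(c.w a) ⁻¹ᵁ U)).le
  have hm : ModDesc.tr (c.π.app l) (D.map a) (c.w a) H (D.map a ⁻¹ᵁ U) (c.π.app l ⁻¹ᵁ (D.map a ⁻¹ᵁ U)) le_rfl m = 0 := by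
    rw [ModDesc.tr_smul_pullSectLE (e' := e₁)]
    have h1 := congrArg (res _ e₁) hsr
    rw [map_zero, res_smul, ModDesc.res_pullSectLE (c.π.app j) H le_rfl e₁ le_rfl e₁, res_self] at h1
    refine Eq.trans ?_ h1
    congr 1
    rw [← ht]
    exact (congr($(Scheme.Hom.appLE_map (c.π.app l) e (homOfLE e₁).op) t)).symm
  obtain ⟨p, a', hp'⟩ := ModDesc.exists_tr_eq_zero D c hc H hU a m hm
  have e₂ : D.map a' ⁻¹ᵁ (D.map a ⁻¹ᵁ U) ≤ D.map (a' ≫ a) ⁻¹ᵁ U := by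
    rw [← Scheme.Hom.comp_preimage, D.map_comp]
  have hxl : c.π.app l x ∈ D.map a ⁻¹ᵁ U := by
    change D.map a (c.π.app l x) ∈ U
    rw [← Scheme.Hom.comp_apply, c.w a]
    exact hx
  have hxp : c.π.app p x ∈ D.map a' ⁻¹ᵁ (D.map a ⁻¹ᵁ U) := by
    change D.map a' (c.π.app p x) ∈ D.map a ⁻¹ᵁ U
    rw [← Scheme.Hom.comp_apply, c.w a']
    exact hxl
  have hxt : c.π.app p x ∈ D.map a' ⁻¹ᵁ (D.obj l).basicOpen t := by
    have h1 : x ∈ c.pt.basicOpen s := (WeakAssLib.mem_primeIdealOf hW hx s).2 hs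
    rw [← ht] at h1
    change D.map a' (c.π.app p x) ∈ (D.obj l).basicOpen t
    rw [← Scheme.Hom.comp_apply, c.w a']
    exact ((Scheme.basicOpen_appLE (c.π.app l) _ _ e t).le h1).2
  rw [ModDesc.tr_smul_pullSectLE (e' := e₂)] at hp'
  have h3 := congrArg (WeakAssLib.mgerm _ hxp) hp'
  rw [map_zero, WeakAssLib.mgerm_smul] at h3
  have hu : IsUnit (((D.obj p).presheaf.germ (D.map a' ⁻¹ᵁ (D.map a ⁻¹ᵁ U)) (c.π.app p x) hxp).hom
      (((D.map a').appLE (D.map a ⁻¹ᵁ U) _ le_rfl).hom t)) := by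
    refine ((D.obj p).mem_basicOpen _ _ hxp).1 ?_
    rw [Scheme.basicOpen_appLE]
    exact ⟨hxp, hxt⟩
  have h4 := hu.smul_eq_zero.1 h3
  refine ⟨p, a' ≫ a, e₂ hxp, ?_⟩
  have h5 := congrArg (WeakAssLib.mgerm _ hxp)
    (ModDesc.res_pullSectLE (D.map (a' ≫ a)) H (le_refl U) e₂ le_rfl e₂ r)
  rw [WeakAssLib.mgerm_res, res_self] at h5
  exact h5.trans h4

end Groth.Agent.CokStage

namespace Groth.Agent.CokStage

open Groth.Agent.QC LimDesc

variable {I : Type u} [SmallCategory I] [IsCofiltered I] (D : I ⥤ Scheme.{u})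
  [∀ {i j} (f : i ⟶ j), IsAffineHom (D.map f)] {i₀ : I}
variable (c : Cone D) (hc : IsLimit c)
variable {X₀ Y₀ : Scheme.{u}} (f₀ : X₀ ⟶ Y₀) (g₀ : Y₀ ⟶ D.obj i₀)
variable {X Y : Scheme.{u}} {f : X ⟶ Y} {g : Y ⟶ c.pt} {qY : Y ⟶ Y₀} {qX : X ⟶ X₀}
variable (hY : IsPullback qY g g₀ (c.π.app i₀)) (hX : IsPullback qX f f₀ qY)

include hc hY hX in
set_option maxHeartbeats 1000000 in
/-- **Injectivity at a point with flat cokernel descends to a stage.** -/
theorem exists_injAt_flat_stage [LocallyOfFinitePresentation f₀] {F₀ G₀ : X₀.Modules} (hFq : Coh.IsQCoh F₀)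
    (hGq : Coh.IsQCoh G₀) (hF₀ : CohB1.IsFP F₀) (hG₀ : CohB1.IsFP G₀) (h₀ : F₀ ⟶ G₀) (x : X)
    (hinj : InjAt ((Scheme.Modules.pullback qX).map h₀) x)
    (hflat : FlatMod.IsFlatOverAt f (cokernel ((Scheme.Modules.pullback qX).map h₀)) x) :
    ∃ j : Over i₀,
      InjAt ((Scheme.Modules.pullback (toBase D (f₀ ≫ g₀) j)).map h₀)
          (proj D (f₀ ≫ g₀) c (isPullback_comp D g₀ c hY f₀ hX) j x) ∧
        FlatMod.IsFlatOverAt (stageMap D g₀ f₀ j) (cokernel ((Scheme.Modules.pullback (toBase D (f₀ ≫ g₀) j)).map h₀))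
          (proj D (f₀ ≫ g₀) c (isPullback_comp D g₀ c hY f₀ hX) j x) := by
  classical
  have hXS := isPullback_comp D g₀ c hY f₀ hX
  have : ∀ {i k : Over i₀} (a : i ⟶ k), IsAffineHom ((tower D (f₀ ≫ g₀)).map a) :=
    fun a => isAffineHom_tower_map D (f₀ ≫ g₀) a
  let T := tower D (f₀ ≫ g₀)
  let cT := towerCone D (f₀ ≫ g₀) c hXS
  have hcT : IsLimit cT := isLimitTowerCone D (f₀ ≫ g₀) c hXS hc
  let Q₀ := cokernel h₀
  have hQq : Coh.IsQCoh Q₀ := isQCoh_cokernel hFq hGq h₀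
  have hQp : CohB1.IsFP Q₀ := isFP_cokernel h₀ hFq hGq hF₀ hG₀
  haveI : LocallyOfFinitePresentation f := MorphismProperty.of_isPullback (P := @LocallyOfFinitePresentation) hX ‹_›
  let P := (Scheme.Modules.pullback qX).obj Q₀
  have hflat' : FlatMod.IsFlatOverAt f P x :=
    FlatLimMod.isFlatOverAt_of_iso f (PreservesCokernel.iso (Scheme.Modules.pullback qX) h₀).symm hflat
  let L : X.Opens := ⟨_, InjFibre.isOpen_setOf_isFlatOverAt f P (isQCoh_pullback qX hQq)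
    (ModDesc.isFP_pullback qX hQq hQp)⟩
  obtain ⟨V₀, hV₀, hxV₀, -⟩ := exists_isAffineOpen_mem_and_subset (X := Y₀) (x := f₀ (qX x)) (U := ⊤) trivial
  obtain ⟨U₀, hU₀, hxU₀, hUV₀⟩ := exists_isAffineOpen_mem_and_subset (X := X₀) (x := qX x) (U := f₀ ⁻¹ᵁ V₀) hxV₀
  let o : Over i₀ := Over.mk (𝟙 i₀)
  haveI := isAffineHom_toBase D (f₀ ≫ g₀) o
  have hUo : IsAffineOpen (toBase D (f₀ ≫ g₀) o ⁻¹ᵁ U₀) := hU₀.preimage _
  have hxo : x ∈ cT.π.app o ⁻¹ᵁ (toBase D (f₀ ≫ g₀) o ⁻¹ᵁ U₀) := by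
    change toBase D (f₀ ≫ g₀) o (proj D (f₀ ≫ g₀) c hXS o x) ∈ U₀
    rwa [← Scheme.Hom.comp_apply, proj_toBase]
  obtain ⟨b, hbL, hxb⟩ := (ModDesc.isAffineOpen_preimage_π T cT hcT (j := o) hUo).exists_basicOpen_le
    (V := L) ⟨x, hflat'⟩ hxo
  obtain ⟨k, a, t, e, ht⟩ := ModDesc.exists_appLE_eq T cT hcT (j := o) hUo b
  haveI := isAffineHom_toBase D g₀ k
  haveI := isAffineHom_toBase D (f₀ ≫ g₀) k
  have hUkaff : IsAffineOpen (T.map a ⁻¹ᵁ (toBase D (f₀ ≫ g₀) o ⁻¹ᵁ U₀)) := hUo.preimage _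
  let Uk : (stage D (f₀ ≫ g₀) k).Opens := (stage D (f₀ ≫ g₀) k).basicOpen (U := T.map a ⁻¹ᵁ (toBase D (f₀ ≫ g₀) o ⁻¹ᵁ U₀)) t
  have hUk : IsAffineOpen Uk := hUkaff.basicOpen t
  have hUk' : Uk ≤ toBase D (f₀ ≫ g₀) k ⁻¹ᵁ U₀ := by
    refine ((stage D (f₀ ≫ g₀) k).basicOpen_le t).trans ?_
    change (trans D (f₀ ≫ g₀) a) ⁻¹ᵁ _ ≤ _
    rw [← Scheme.Hom.comp_preimage, trans_toBase]
  have hUkV : Uk ≤ stageMap D g₀ f₀ k ⁻¹ᵁ (toBase D g₀ k ⁻¹ᵁ V₀) := by
    rw [← Scheme.Hom.comp_preimage, stageMap_toBase, Scheme.Hom.comp_preimage]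
    exact hUk'.trans ((toBase D (f₀ ≫ g₀) k).preimage_mono hUV₀)
  have hb : X.basicOpen b = cT.π.app o ⁻¹ᵁ (toBase D (f₀ ≫ g₀) o ⁻¹ᵁ U₀) ⊓ proj D (f₀ ≫ g₀) c hXS k ⁻¹ᵁ Uk := by
    rw [← ht]
    exact Scheme.basicOpen_appLE _ _ _ _ _
  obtain ⟨j, aj, hj⟩ := FlatLimMod.exists_flat_over_piece D c hc f₀ g₀ hY hX Q₀ hQq hQp k
    (hV₀.preimage (toBase D g₀ k)) hUk hUkV fun y hy => hbL (hb.ge ⟨by
      have h1 : toBase D (f₀ ≫ g₀) k (proj D (f₀ ≫ g₀) c hXS k y) ∈ U₀ := hUk' hy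
      change toBase D (f₀ ≫ g₀) o (proj D (f₀ ≫ g₀) c hXS o y) ∈ U₀
      rw [← Scheme.Hom.comp_apply, proj_toBase] at h1 ⊢
      exact h1, hy⟩)
  haveI := isAffineHom_toBase D g₀ j
  let bj := toBase D (f₀ ≫ g₀) j
  let Fj := (Scheme.Modules.pullback bj).obj F₀
  let Gj := (Scheme.Modules.pullback bj).obj G₀
  let uj : Fj ⟶ Gj := (Scheme.Modules.pullback bj).map h₀
  have hFj : Coh.IsQCoh Fj := isQCoh_pullback bj hFq
  have hGj : Coh.IsQCoh Gj := isQCoh_pullback bj hGq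
  let U' : (stage D (f₀ ≫ g₀) j).Opens := trans D (f₀ ≫ g₀) aj ⁻¹ᵁ Uk
  have hU' : IsAffineOpen U' := by
    haveI : IsAffineHom (trans D (f₀ ≫ g₀) aj) := isAffineHom_tower_map D (f₀ ≫ g₀) aj
    exact hUk.preimage (trans D (f₀ ≫ g₀) aj)
  let V' : (stage D g₀ j).Opens := trans D g₀ aj ⁻¹ᵁ (toBase D g₀ k ⁻¹ᵁ V₀)
  have hV' : IsAffineOpen V' := by
    haveI : IsAffineHom (trans D g₀ aj) := isAffineHom_tower_map D g₀ aj
    exact (hV₀.preimage (toBase D g₀ k)).preimage (trans D g₀ aj)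
  have hUV' : U' ≤ stageMap D g₀ f₀ j ⁻¹ᵁ V' := by
    rw [← Scheme.Hom.comp_preimage, ← trans_stageMap, Scheme.Hom.comp_preimage]
    exact (trans D (f₀ ≫ g₀) aj).preimage_mono hUkV
  have hflatj : ∀ y ∈ U', FlatMod.IsFlatOverAt (stageMap D g₀ f₀ j) (cokernel uj) y := fun y hy =>
    FlatLimMod.isFlatOverAt_of_iso _ (PreservesCokernel.iso (Scheme.Modules.pullback bj) h₀) (hj y hy)
  haveI : LocallyOfFinitePresentation (stageMap D g₀ f₀ j) :=
    MorphismProperty.of_isPullback (P := @LocallyOfFinitePresentation) (isPullback_stageMap D g₀ f₀ j) ‹_›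
  -- generators of the kernel
  obtain ⟨S, hS⟩ : (LinearMap.ker (secMap uj U')).FG := by
    letI := ((stageMap D g₀ f₀ j).appLE V' U' hUV').hom.toAlgebra
    haveI : Algebra.FinitePresentation Γ(stage D g₀ j, V') Γ(stage D (f₀ ≫ g₀) j, U') :=
      (stageMap D g₀ f₀ j).finitePresentation_appLE hV' hU' hUV'
    letI := Module.compHom Γ(Gj, U') ((stageMap D g₀ f₀ j).appLE V' U' hUV').hom
    haveI : IsScalarTower Γ(stage D g₀ j, V') Γ(stage D (f₀ ≫ g₀) j, U') Γ(Gj, U') :=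
      IsScalarTower.of_algebraMap_smul fun _ _ => rfl
    haveI := LocFree.finitePresentation_sections_of_isFP hFj (ModDesc.isFP_pullback bj hFq hF₀) hU'
    haveI := LocFree.finitePresentation_sections_of_isFP hGj (ModDesc.isFP_pullback bj hGq hG₀) hU'
    haveI := flat_quot (stageMap D g₀ f₀ j) uj hFj hGj hV' hU' hUV' hflatj
    exact ker_fg (A := Γ(stage D g₀ j, V')) (secMap uj U')
  have hxk : proj D (f₀ ≫ g₀) c hXS k x ∈ Uk := (hb.le hxb).2
  let pj : X ⟶ stage D (f₀ ≫ g₀) j := proj D (f₀ ≫ g₀) c hXS j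
  have hwj : pj ≫ trans D (f₀ ≫ g₀) aj = proj D (f₀ ≫ g₀) c hXS k := cT.w aj
  have hxj : x ∈ pj ⁻¹ᵁ U' := by
    change trans D (f₀ ≫ g₀) aj (pj x) ∈ Uk
    rw [← Scheme.Hom.comp_apply, hwj]
    exact hxk
  let η := ModDesc.trIso pj bj (proj_toBase D (f₀ ≫ g₀) c hXS j)
  have hinjj : InjAt ((Scheme.Modules.pullback pj).map uj) x :=
    injAt_congr (η.app F₀).symm (η.app G₀).symm (η.inv.naturality h₀).symm hinj
  have hgen : ∀ r ∈ S, ∃ (p : Over i₀) (d : p ⟶ j) (hp : cT.π.app p x ∈ T.map d ⁻¹ᵁ U'),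
      WeakAssLib.mgerm ((Scheme.Modules.pullback (T.map d)).obj Fj) hp
        (ModDesc.pullSectLE (T.map d) Fj U' _ le_rfl r) = 0 := by
    intro r hr
    refine exists_mgerm_eq_zero_stage T cT hcT (j := j) Fj hFj hU' r hxj ?_
    apply hinjj
    rw [map_zero]
    refine (stalk_map_mgerm ((Scheme.Modules.pullback pj).map uj) (U := pj ⁻¹ᵁ U') hxj
      (ModDesc.pullSectLE pj Fj U' (pj ⁻¹ᵁ U') le_rfl r)).trans ?_
    rw [ModDesc.app_pullSectLE]
    have h0 : secMap uj U' r = 0 := LinearMap.mem_ker.1 (hS ▸ Submodule.subset_span hr)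
    rw [show uj.app U' r = 0 from h0, map_zero]
    exact map_zero _
  choose p d hp hzero using hgen
  let ob : Finset (Over i₀) := insert j (S.attach.image fun r => p r.1 r.2)
  have hmem : ∀ r (hr : r ∈ S), p r hr ∈ ob := fun r hr =>
    Finset.mem_insert_of_mem (Finset.mem_image.2 ⟨⟨r, hr⟩, Finset.mem_attach _ _, rfl⟩)
  let ho : Finset (Σ' (X Y : Over i₀) (_ : X ∈ ob) (_ : Y ∈ ob), X ⟶ Y) :=
    S.attach.image fun r => ⟨p r.1 r.2, j, hmem r.1 r.2, Finset.mem_insert_self _ _, d r.1 r.2⟩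
  obtain ⟨l, φ, hφ⟩ := IsCofiltered.inf_exists ob ho
  let al : l ⟶ j := φ (Finset.mem_insert_self _ _)
  have hsql := isPullback_trans_stageMap D g₀ f₀ al
  let pl : X ⟶ stage D (f₀ ≫ g₀) l := proj D (f₀ ≫ g₀) c hXS l
  have hwl : pl ≫ trans D (f₀ ≫ g₀) al = pj := cT.w al
  have hxl : pl x ∈ T.map al ⁻¹ᵁ U' := by
    change trans D (f₀ ≫ g₀) al (pl x) ∈ U'
    rw [← Scheme.Hom.comp_apply, hwl]
    exact hxj
  refine ⟨l, ?_, ?_⟩
  · let θ := ModDesc.trIso (trans D (f₀ ≫ g₀) al) bj (trans_toBase D (f₀ ≫ g₀) al)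
    refine injAt_congr (θ.app F₀) (θ.app G₀) (θ.hom.naturality h₀).symm ?_
    refine (injAt_pullback_iff hsql uj hFj hGj hV' hU' hUV' hflatj (x' := pl x) hxl).2 fun r hr => ?_
    have hrS : r ∈ Submodule.span Γ(stage D (f₀ ≫ g₀) j, U') (S : Set Γ(Fj, U')) := hS.symm ▸ LinearMap.mem_ker.2 hr
    clear hr
    induction hrS using Submodule.span_induction with
    | mem r hr =>
      have hdl : φ (hmem r hr) ≫ d r hr = al :=
        hφ _ _ (Finset.mem_image.2 ⟨⟨r, hr⟩, Finset.mem_attach _ _, rfl⟩)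
      have el : T.map al ⁻¹ᵁ U' ≤
          T.map (φ (hmem r hr)) ⁻¹ᵁ (T.map (d r hr) ⁻¹ᵁ U') := by
        have h1 : T.map (φ (hmem r hr)) ≫ T.map (d r hr) = T.map al := by rw [← T.map_comp, hdl]
        exact (congr($h1 ⁻¹ᵁ U')).ge
      refine mgerm_pullSectLE_comp_eq_zero (T.map (φ (hmem r hr)))
        (T.map (d r hr)) (by rw [← T.map_comp, hdl]) Fj le_rfl el le_rfl r hxl ?_
      have key : ∀ (y : T.obj (p r hr)) (hy : y ∈ T.map (d r hr) ⁻¹ᵁ U'), y = cT.π.app (p r hr) x →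
          WeakAssLib.mgerm ((Scheme.Modules.pullback (T.map (d r hr))).obj Fj) hy
            (ModDesc.pullSectLE (T.map (d r hr)) Fj U' _ le_rfl r) = 0 := by
        rintro y hy rfl
        exact hzero r hr
      exact key _ _ congr($(cT.w (φ (hmem r hr))) x)
    | zero => rw [map_zero]; exact map_zero _
    | add r s _ _ hr hs => rw [map_add, map_add]; exact (congrArg₂ _ hr hs).trans (add_zero _)
    | smul a r _ hr => rw [ModDesc.pullSectLE_smul, WeakAssLib.mgerm_smul]; exact (congrArg _ hr).trans (smul_zero _)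
  · refine FlatLimMod.isFlatOverAt_of_iso _ (PreservesCokernel.iso (Scheme.Modules.pullback (toBase D (f₀ ≫ g₀) l)) h₀) ?_
    exact FlatLimMod.isFlatOverAt_trans D f₀ g₀ Q₀ al _ (hj _ hxl)

end Groth.Agent.CokStage
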