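import Groth.Agent.FlatLimMod.Basic
import Groth.Agent.FlatRes.Basic
import Groth.Agent.QC.Closure
import Groth.Agent.QC.IdealMod
import Groth.Agent.WeakAssLib.Basic

/-!
# Injectivity at a point of a pulled back morphism with flat cokernel
-/

set_option autoImplicit false
set_option backward.isDefEq.respectTransparency false
set_option linter.style.haveILetI false

universe u

open CategoryTheory CategoryTheory.Limits AlgebraicGeometry TopologicalSpace Opposite TensorProduct

namespace Groth.Agent.CokStage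

open Groth.Agent.QC

/-- Injectivity of a morphism of modules on a stalk. -/
abbrev InjAt {X : Scheme.{u}} {F G : X.Modules} (u : F ⟶ G) (x : X) : Prop :=
  Function.Injective ((TopCat.Presheaf.stalkFunctor Ab x).map (Scheme.Modules.Hom.mapPresheaf u))

/-- A map with flat cokernel stays injective on its image after tensoring. -/
theorem mem_range_lTensor_ker {A : Type u} [CommRing A] (C : Type u) [AddCommGroup C] [Module A C]
    {M N : Type u} [AddCommGroup M] [Module A M] [AddCommGroup N] [Module A N] (u : M →ₗ[A] N)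
    [Module.Flat A (N ⧸ LinearMap.range u)] {z : C ⊗[A] M} (h : u.lTensor C z = 0) :
    z ∈ LinearMap.range ((LinearMap.ker u).subtype.lTensor C) := by
  have hi : Function.Injective ((LinearMap.range u).subtype.lTensor C) :=
    LinearMap.lTensor_injective_of_exact_of_flat (LinearMap.range u).mkQ (Submodule.mkQ_surjective _)
      (LinearMap.range u).subtype (Submodule.injective_subtype _) (LinearMap.exact_subtype_mkQ _) C
  have h0 : u.rangeRestrict.lTensor C z = 0 := by
    apply hi
    rw [map_zero, ← LinearMap.comp_apply, ← LinearMap.lTensor_comp]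
    exact h
  have hex : Function.Exact (LinearMap.ker u).subtype u.rangeRestrict := by
    rw [LinearMap.exact_iff, Submodule.range_subtype, LinearMap.ker_rangeRestrict]
  exact ((lTensor_exact C hex (LinearMap.surjective_rangeRestrict u)) z).1 h0

/-- The kernel of a map between finitely presented modules with flat cokernel is finitely generated. -/
theorem ker_fg {A B : Type u} [CommRing A] [CommRing B] [Algebra A B] [Algebra.FinitePresentation A B]
    {M N : Type u} [AddCommGroup M] [Module B M] [Module.Finite B M] [AddCommGroup N] [Module B N]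
    [Module.FinitePresentation B N] [Module A N] [IsScalarTower A B N] (u : M →ₗ[B] N)
    [Module.Flat A (N ⧸ LinearMap.range u)] : (LinearMap.ker u).FG := by
  haveI : Module.FinitePresentation B (N ⧸ LinearMap.range u) :=
    Module.finitePresentation_of_surjective (LinearMap.range u).mkQ (Submodule.mkQ_surjective _) (by
      rw [Submodule.ker_mkQ, LinearMap.range_eq_map]; exact (Module.Finite.fg_top (R := B) (M := M)).map u)
  obtain ⟨n, p, hp⟩ := Module.Finite.exists_fin' B N
  have hg : Function.Surjective ((LinearMap.range u).mkQ.comp p) := (Submodule.mkQ_surjective _).comp hp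
  haveI := FlatRes.finitePresentation_ker (A := A) _ hg
  let q : LinearMap.ker ((LinearMap.range u).mkQ.comp p) →ₗ[B] LinearMap.range u :=
    p.restrict fun x hx => (Submodule.Quotient.mk_eq_zero _).1 hx
  have hq : Function.Surjective q := by
    rintro ⟨y, hy⟩
    obtain ⟨x, rfl⟩ := hp y
    exact ⟨⟨x, (Submodule.Quotient.mk_eq_zero _).2 hy⟩, rfl⟩
  have hker : (LinearMap.ker q).FG := by
    refine Submodule.fg_of_fg_map_injective (LinearMap.ker ((LinearMap.range u).mkQ.comp p)).subtype
      (Submodule.injective_subtype _) ?_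
    have e : (LinearMap.ker q).map (LinearMap.ker ((LinearMap.range u).mkQ.comp p)).subtype =
        LinearMap.ker p := by
      ext x
      constructor
      · rintro ⟨y, hy, rfl⟩
        exact congrArg Subtype.val hy
      · intro hx
        refine ⟨⟨x, ?_⟩, Subtype.ext hx, rfl⟩
        change (LinearMap.range u).mkQ (p x) = 0
        rw [LinearMap.mem_ker.1 hx, map_zero]
    rw [e]
    exact Module.FinitePresentation.fg_ker p hp
  haveI := Module.finitePresentation_of_surjective q hq hker
  have := Module.FinitePresentation.fg_ker u.rangeRestrict (LinearMap.surjective_rangeRestrict u)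
  rwa [LinearMap.ker_rangeRestrict] at this

section

variable {X : Scheme.{u}} {F G : X.Modules} (u : F ⟶ G)

/-- The map on sections, as a linear map. -/
noncomputable def secMap (U : X.Opens) : Γ(F, U) →ₗ[Γ(X, U)] Γ(G, U) where
  toFun := u.app U
  map_add' := map_add _
  map_smul' r s := u.app_smul r s

@[simp] lemma secMap_apply (U : X.Opens) (s : Γ(F, U)) : secMap u U s = u.app U s := rfl

/-- Sections of a quasi-coherent cokernel over an affine open. -/
theorem exists_quot_equiv (hF : Coh.IsQCoh F) (hG : Coh.IsQCoh G) {U : X.Opens} (hU : IsAffineOpen U) :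
    Nonempty ((Γ(G, U) ⧸ LinearMap.range (secMap u U)) ≃ₗ[Γ(X, U)] Γ(cokernel u, U)) := by
  let π := secMap (cokernel.π u) U
  have hπ : Function.Surjective π := app_surjective_of_epi hU hG (isQCoh_cokernel hF hG u) (cokernel.π u)
  have hker : LinearMap.ker π = LinearMap.range (secMap u U) := by
    ext s
    constructor
    · intro hs
      obtain ⟨a, ha⟩ := (mem_range_kernel_app (cokernel.π u) U s).2 hs
      obtain ⟨b, hb⟩ := app_surjective_of_epi hU hF (isQCoh_image hF hG u) (Abelian.factorThruImage u) a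
      refine ⟨b, ?_⟩
      have h1 := congr($(congr($(Abelian.image.fac u).app U)) b)
      rw [← ha, ← hb]
      exact h1.symm
    · rintro ⟨b, rfl⟩
      exact congr($(congr($(cokernel.condition u).app U)) b)
  exact ⟨(Submodule.quotEquivOfEq _ _ hker.symm).trans (π.quotKerEquivOfSurjective hπ)⟩

/-- The stalk map on germs. -/
theorem stalk_map_mgerm {U : X.Opens} {x : X} (hx : x ∈ U) (s : Γ(F, U)) :
    (TopCat.Presheaf.stalkFunctor Ab x).map (Scheme.Modules.Hom.mapPresheaf u) (WeakAssLib.mgerm F hx s) =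
      WeakAssLib.mgerm G hx (u.app U s) :=
  TopCat.Presheaf.stalkFunctor_map_germ_apply (C := Ab) U x hx _ s

end

/-- Flatness of the cokernel on an affine piece, algebraically. -/
theorem flat_quot {X Y : Scheme.{u}} (f : X ⟶ Y) {F G : X.Modules} (u : F ⟶ G) (hF : Coh.IsQCoh F)
    (hG : Coh.IsQCoh G) {V : Y.Opens} (hV : IsAffineOpen V) {U : X.Opens} (hU : IsAffineOpen U)
    (hUV : U ≤ f ⁻¹ᵁ V) (h : ∀ x ∈ U, FlatMod.IsFlatOverAt f (cokernel u) x) :
    letI := (f.appLE V U hUV).hom.toAlgebra
    letI := Module.compHom Γ(G, U) (f.appLE V U hUV).hom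
    haveI : IsScalarTower Γ(Y, V) Γ(X, U) Γ(G, U) := IsScalarTower.of_algebraMap_smul fun _ _ => rfl
    Module.Flat Γ(Y, V) (Γ(G, U) ⧸ LinearMap.range (secMap u U)) := by
  letI := (f.appLE V U hUV).hom.toAlgebra
  letI := Module.compHom Γ(G, U) (f.appLE V U hUV).hom
  haveI : IsScalarTower Γ(Y, V) Γ(X, U) Γ(G, U) := IsScalarTower.of_algebraMap_smul fun _ _ => rfl
  letI := FlatModB.secModule f (cokernel u) U V hUV
  haveI : IsScalarTower Γ(Y, V) Γ(X, U) Γ(cokernel u, U) := IsScalarTower.of_algebraMap_smul fun _ _ => rfl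
  obtain ⟨e⟩ := exists_quot_equiv u hF hG hU
  haveI := (FlatModB.flat_sections_iff f (cokernel u) (isQCoh_cokernel hF hG u) hU hV hUV).2 h
  exact Module.Flat.of_linearEquiv (e.restrictScalars Γ(Y, V))

set_option maxHeartbeats 1000000 in
/-- **Criterion for injectivity at a point of a base change of a map with flat cokernel.** -/
theorem injAt_pullback_iff {X₀ Y₀ A' B' : Scheme.{u}} {f₀ : X₀ ⟶ Y₀} {a : A' ⟶ Y₀} {b : B' ⟶ X₀}
    {m : B' ⟶ A'} (hpb : IsPullback b m f₀ a) {F G : X₀.Modules} (u : F ⟶ G) (hF : Coh.IsQCoh F)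
    (hG : Coh.IsQCoh G) {V : Y₀.Opens} (hV : IsAffineOpen V) {U : X₀.Opens} (hU : IsAffineOpen U)
    (hUV : U ≤ f₀ ⁻¹ᵁ V) (hflat : ∀ x ∈ U, FlatMod.IsFlatOverAt f₀ (cokernel u) x) {x' : B'}
    (hx : x' ∈ b ⁻¹ᵁ U) :
    InjAt ((Scheme.Modules.pullback b).map u) x' ↔ ∀ r : Γ(F, U), u.app U r = 0 →
      WeakAssLib.mgerm ((Scheme.Modules.pullback b).obj F) hx (ModDesc.pullSectLE b F U (b ⁻¹ᵁ U) le_rfl r) = 0 := by
  let P := (Scheme.Modules.pullback b).obj F
  let Q := (Scheme.Modules.pullback b).obj G
  let ub : P ⟶ Q := (Scheme.Modules.pullback b).map u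
  constructor
  · intro hinj r hr
    apply hinj
    rw [map_zero, stalk_map_mgerm, ModDesc.app_pullSectLE, hr, map_zero]
    exact map_zero _
  intro hgen
  have hmx : m x' ∈ a ⁻¹ᵁ V := by
    change a (m x') ∈ V
    rw [← Scheme.Hom.comp_apply, ← hpb.w]
    exact hUV hx
  obtain ⟨O, hO, hxO, hOV'⟩ := exists_isAffineOpen_mem_and_subset (X := A') (x := m x') (U := a ⁻¹ᵁ V) hmx
  have hOV : O ≤ a ⁻¹ᵁ V := hOV'
  let W : B'.Opens := b ⁻¹ᵁ U ⊓ m ⁻¹ᵁ O
  have hW : IsAffineOpen W := by
    haveI : IsAffine _ := hV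
    haveI : IsAffine _ := hU
    haveI : IsAffine _ := hO
    exact .of_isIso (Scheme.Hom.isPullback_resLE hpb hOV hUV (rfl : W = _)).isoPullback.hom
  have hxW : x' ∈ W := ⟨hx, hxO⟩
  have hP := (isIso_pushoutSection_iff hpb hOV hUV (rfl : W = _)).1
    (isIso_pushoutSection_of_isAffineOpen hpb hOV hUV rfl hV hO hU)
  let A := Γ(Y₀, V)
  let B := Γ(X₀, U)
  let C := Γ(A', O)
  let B'' := Γ(B', W)
  letI : Algebra A C := (a.appLE V O hOV).hom.toAlgebra
  letI : Algebra A B := (f₀.appLE V U hUV).hom.toAlgebra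
  letI : Algebra B B'' := (b.appLE U W inf_le_left).hom.toAlgebra
  letI : Algebra C B'' := (m.appLE O W inf_le_right).hom.toAlgebra
  letI : Algebra A B'' := ((algebraMap B B'').comp (algebraMap A B)).toAlgebra
  haveI : IsScalarTower A B B'' := IsScalarTower.of_algebraMap_eq fun _ => rfl
  haveI : IsScalarTower A C B'' := IsScalarTower.of_algebraMap_eq fun r => congr($(hP.w).hom r)
  haveI : Algebra.IsPushout A B C B'' := CommRingCat.isPushout_iff_isPushout.1 hP
  haveI : Algebra.IsPushout A C B B'' := Algebra.IsPushout.symm inferInstance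
  letI := Module.compHom Γ(G, U) (f₀.appLE V U hUV).hom
  letI := Module.compHom Γ(F, U) (f₀.appLE V U hUV).hom
  haveI : IsScalarTower A B Γ(G, U) := IsScalarTower.of_algebraMap_smul fun _ _ => rfl
  haveI : IsScalarTower A B Γ(F, U) := IsScalarTower.of_algebraMap_smul fun _ _ => rfl
  let uB := secMap u U
  haveI hQ : Module.Flat A (Γ(G, U) ⧸ LinearMap.range uB) := flat_quot f₀ u hF hG hV hU hUV hflat
  haveI : Coh.IsQCoh F := hF
  haveI : Coh.IsQCoh G := hG
  obtain ⟨Φ, hΦ⟩ := ModDesc.exists_bijective_liftBaseChange b F hU hW inf_le_left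
  obtain ⟨Φ', hΦ'⟩ := ModDesc.exists_bijective_liftBaseChange b G hU hW inf_le_left
  have hnat : ∀ y, ub.app W (Φ y) = Φ' (uB.lTensor B'' y) := by
    intro y
    induction y using TensorProduct.induction_on with
    | zero => simp
    | tmul c s =>
      rw [LinearMap.lTensor_tmul, show c ⊗ₜ[B] s = c • ((1 : B'') ⊗ₜ[B] s) by
        rw [smul_tmul', smul_eq_mul, mul_one], Φ.map_smul, hΦ, show c ⊗ₜ[B] uB s = c • ((1 : B'') ⊗ₜ[B] uB s) by
        rw [smul_tmul', smul_eq_mul, mul_one], Φ'.map_smul, hΦ', Scheme.Modules.Hom.app_smul]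
      exact congrArg (c • ·) (ModDesc.app_pullSectLE b u U W inf_le_left s)
    | add y z hy hz => simp only [map_add, hy, hz]
  -- generators of the kernel on the piece have vanishing germs
  have hker : ∀ ξ : Γ(P, W), ub.app W ξ = 0 → WeakAssLib.mgerm P hxW ξ = 0 := by
    intro ξ hξ
    let e := Algebra.IsPushout.cancelBaseChange A C B B'' Γ(F, U)
    let e' := Algebra.IsPushout.cancelBaseChange A C B B'' Γ(G, U)
    let uA := uB.restrictScalars A
    haveI : Module.Flat A (Γ(G, U) ⧸ LinearMap.range uA) :=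
      Module.Flat.of_linearEquiv (Submodule.Quotient.restrictScalarsEquiv A (LinearMap.range uB))
    have hsq : ∀ z, uB.lTensor B'' (e.symm z) = e'.symm (uA.lTensor C z) := by
      intro z
      induction z using TensorProduct.induction_on with
      | zero => simp
      | tmul c s =>
        rw [Algebra.IsPushout.cancelBaseChange_symm_tmul, LinearMap.lTensor_tmul, LinearMap.lTensor_tmul,
          Algebra.IsPushout.cancelBaseChange_symm_tmul]
        rfl
      | add y z hy hz => simp only [map_add, hy, hz]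
    have h1 : uA.lTensor C (e (Φ.symm ξ)) = 0 := by
      apply e'.symm.injective
      rw [map_zero, ← hsq, LinearEquiv.symm_apply_apply]
      apply Φ'.injective
      rw [map_zero, ← hnat, LinearEquiv.apply_symm_apply, hξ]
    obtain ⟨t, ht⟩ := mem_range_lTensor_ker C uA h1
    rw [← Φ.apply_symm_apply ξ, ← e.symm_apply_apply (Φ.symm ξ), ← ht]
    clear ht
    induction t using TensorProduct.induction_on with
    | zero => simp
    | tmul c s =>
      rw [LinearMap.lTensor_tmul, Algebra.IsPushout.cancelBaseChange_symm_tmul,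
        show algebraMap C B'' c ⊗ₜ[B] ((LinearMap.ker uA).subtype s) =
          algebraMap C B'' c • ((1 : B'') ⊗ₜ[B] ((LinearMap.ker uA).subtype s)) by
        rw [smul_tmul', smul_eq_mul, mul_one], map_smul, hΦ, WeakAssLib.mgerm_smul]
      have h2 := hgen _ (show u.app U s.1 = 0 from s.2)
      have h5 := congrArg (WeakAssLib.mgerm P hxW)
        (ModDesc.res_pullSectLE b F (le_refl U) (inf_le_left : W ≤ b ⁻¹ᵁ U) le_rfl inf_le_left s.1)
      rw [res_self, WeakAssLib.mgerm_res] at h5
      exact (congrArg (HSMul.hSMul _) (h5.symm.trans h2)).trans (smul_zero _)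
    | add y z hy hz => simp only [map_add, hy, hz, add_zero]
  have hLP : IsLoc P W := isLoc_of_isQCoh hW (hM := isQCoh_pullback b hF)
  have hLQ : IsLoc Q W := isLoc_of_isQCoh hW (hM := isQCoh_pullback b hG)
  suffices H : ∀ z : P.presheaf.stalk x', Algz.stalkMapₗ ub x' z = 0 → z = 0 from
    (injective_iff_map_eq_zero _).2 H
  intro z hz
  obtain ⟨s, ξ, hs, hsξ⟩ := WeakAssLib.exists_germ hW hLP hxW z
  have hz' : Algz.stalkMapₗ ub x' z = 0 := hz
  have h1 : WeakAssLib.mgerm Q hxW (ub.app W ξ) = 0 := by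
    have h0 : Algz.stalkMapₗ ub x' (WeakAssLib.mgerm P hxW ξ) = 0 := by
      rw [← hsξ, LinearMap.map_smul, hz', smul_zero]
    exact (stalk_map_mgerm ub hxW ξ).symm.trans h0
  obtain ⟨t, ht, htz⟩ := (WeakAssLib.germ_eq_zero_iff hW hLQ hxW _).1 h1
  have h3 := hker (t • ξ) (by rw [Scheme.Modules.Hom.app_smul]; exact htz)
  rw [WeakAssLib.mgerm_smul] at h3
  have h4 := (WeakAssLib.isUnit_germ hW hxW ht).smul_eq_zero.1 h3
  rw [← hsξ] at h4
  exact (WeakAssLib.isUnit_germ hW hxW hs).smul_eq_zero.1 h4

end Groth.Agent.CokStage
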